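import Groth.Agent.Books.Lambda3

/-!
# The determinant of a lambda-ring with positive structure and `Gr^1`

For a positive element `e` put `d e = λ^{ε e}(e)`.  The set `detKer` of all differences `a - b` of
positive elements with `d a = d b` is an additive subgroup; it contains the products of elements of
augmentation zero and, under the splitting property, the second step of the gamma filtration.
-/

set_option autoImplicit false
universe u

open Finset LambdaRing

namespace Groth.Agent.Krr.H480.DetLine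

open Groth.Agent.Books.Lambda1 Groth.Agent.Books.Lambda2 Groth.Agent.Books.Lambda3

section det

variable {K : Type u} [CommRing K] [LambdaOps K] (P : PosStructure K)

/-- the determinant of a positive element -/
def dt (e : K) : K := LambdaOps.lam (P.aug e).toNat e

lemma dt_add (e f : K) (he : e ∈ P.pos) (hf : f ∈ P.pos) : dt P (e + f) = dt P e * dt P f := by
  have h1 := P.aug_pos e he
  have h2 := P.aug_pos f hf
  have h3 : (P.aug (e + f)).toNat = (P.aug e).toNat + (P.aug f).toNat := by
    rw [map_add]; omega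
  rw [dt, h3, LambdaOps.lam_add, dt, dt]
  rw [Finset.sum_eq_single (P.aug e).toNat]
  · rw [Nat.add_sub_cancel_left]
  · intro b hb hb'
    have hb2 := Finset.mem_range.mp hb
    rcases lt_or_gt_of_ne hb' with h | h
    · rw [P.lam_eq_zero f hf _ (by omega), mul_zero]
    · rw [P.lam_eq_zero e he _ (by omega), zero_mul]
  · intro h
    exact absurd (Finset.mem_range.mpr (by omega)) h

lemma isUnit_dt (e : K) (he : e ∈ P.pos) : IsUnit (dt P e) := P.isUnit_lam e he

lemma dt_line (u : K) (hu : P.IsLine u) : dt P u = u := by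
  rw [dt, hu.2]
  exact LambdaOps.lam_one u

lemma dt_sum_fin {m : ℕ} (u : Fin (m + 1) → K) (hu : ∀ i, u i ∈ P.pos) :
    (∑ i, u i) ∈ P.pos ∧ dt P (∑ i, u i) = ∏ i, dt P (u i) := by
  induction m with
  | zero => simp [hu 0]
  | succ m ih =>
    rw [Fin.sum_univ_succ, Fin.prod_univ_succ]
    obtain ⟨h1, h2⟩ := ih (fun i => u i.succ) (fun i => hu _)
    exact ⟨P.add_mem _ _ (hu 0) h1, by rw [dt_add P _ _ (hu 0) h1, h2]⟩

lemma map_dt {K' : Type u} [CommRing K'] [LambdaOps K'] {P' : PosStructure K'} {f : K →+* K'}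
    (hf : IsExtension P P' f) (e : K) : f (dt P e) = dt P' (f e) := by
  rw [dt, dt, hf.isLambdaHom, hf.aug_comp]

/-- the determinant of a product of positive elements -/
lemma dt_mul (hK : HasSplitting K P) (a c : K) (ha : a ∈ P.pos) (hc : c ∈ P.pos) :
    dt P (a * c) = dt P a ^ (P.aug c).toNat * dt P c ^ (P.aug a).toNat := by
  obtain ⟨m, hm⟩ : ∃ m, (P.aug a).toNat = m + 1 := ⟨(P.aug a).toNat - 1, by
    have := P.aug_pos a ha; omega⟩
  obtain ⟨n, hn⟩ : ∃ n, (P.aug c).toNat = n + 1 := ⟨(P.aug c).toNat - 1, by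
    have := P.aug_pos c hc; omega⟩
  obtain ⟨L, hL, f, hf, u, hu, hus⟩ := exists_split_fin P hK a ha (m + 1) hm
  obtain ⟨L', hL', g, hg, v, hv, hvs⟩ := exists_split_fin L.posStr hL (f c) (hf.pos_subset c hc)
    (n + 1) (by rw [hf.aug_comp]; exact hn)
  have hgf := IsExtension_comp hf hg
  apply hgf.injective
  rw [map_mul, map_pow, map_pow, map_dt P hgf, map_dt P hgf, map_dt P hgf, map_mul, hm, hn]
  have h1 : (g.comp f) a = ∑ i, g (u i) := by
    rw [RingHom.comp_apply, ← hus, map_sum]
  have h2 : (g.comp f) c = ∑ i, v i := by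
    rw [RingHom.comp_apply, ← hvs]
  have hgu : ∀ i, L'.posStr.IsLine (g (u i)) := fun i => IsLine_map hg (hu i)
  rw [h1, h2, Finset.sum_mul_sum]
  have h3 : ∀ i, (∑ j, g (u i) * v j) ∈ L'.posStr.pos ∧
      dt L'.posStr (∑ j, g (u i) * v j) = ∏ j, (g (u i) * v j) := by
    intro i
    have h4 := dt_sum_fin L'.posStr (fun j => g (u i) * v j)
      (fun j => (IsLine_mul _ (hgu i) (hv j)).1)
    refine ⟨h4.1, ?_⟩
    rw [h4.2]
    exact Finset.prod_congr rfl (fun j _ => dt_line _ _ (IsLine_mul _ (hgu i) (hv j)))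
  rw [(dt_sum_fin L'.posStr (fun i => ∑ j, g (u i) * v j) (fun i => (h3 i).1)).2]
  rw [Finset.prod_congr rfl (fun i _ => (h3 i).2)]
  rw [(dt_sum_fin L'.posStr (fun i => g (u i)) (fun i => (hgu i).1)).2,
    (dt_sum_fin L'.posStr v (fun i => (hv i).1)).2]
  rw [Finset.prod_congr rfl (fun i _ => dt_line _ _ (hgu i)),
    Finset.prod_congr rfl (fun i _ => dt_line _ _ (hv i))]
  simp only [Finset.prod_mul_distrib, Finset.prod_const, Finset.card_univ, Fintype.card_fin,
    Finset.prod_pow]

/-- differences of positive elements with equal determinants -/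
def detKer : AddSubgroup K where
  carrier := {x | ∃ e ∈ P.pos, ∃ f ∈ P.pos, x = e - f ∧ dt P e = dt P f}
  zero_mem' := ⟨1, (isLine_one P).1, 1, (isLine_one P).1, by simp, rfl⟩
  add_mem' := by
    rintro x y ⟨e, he, f, hf, rfl, h⟩ ⟨e', he', f', hf', rfl, h'⟩
    exact ⟨e + e', P.add_mem _ _ he he', f + f', P.add_mem _ _ hf hf', by ring, by
      rw [dt_add P _ _ he he', dt_add P _ _ hf hf', h, h']⟩
  neg_mem' := by
    rintro x ⟨e, he, f, hf, rfl, h⟩
    exact ⟨f, hf, e, he, by ring, h.symm⟩

lemma mem_detKer_iff (a b : K) (ha : a ∈ P.pos) (hb : b ∈ P.pos) :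
    a - b ∈ detKer P ↔ dt P a = dt P b := by
  constructor
  · rintro ⟨e, he, f, hf, h, h'⟩
    have h1 : a + f = e + b := by linear_combination h
    have h2 : dt P a * dt P f = dt P b * dt P f := by
      rw [← dt_add P _ _ ha hf, h1, dt_add P _ _ he hb, h', mul_comm]
    exact (isUnit_dt P f hf).mul_right_cancel h2
  · intro h
    exact ⟨a, ha, b, hb, rfl, h⟩

lemma map_mem_detKer_iff {K' : Type u} [CommRing K'] [LambdaOps K'] {P' : PosStructure K'}
    {f : K →+* K'} (hf : IsExtension P P' f) (x : K) : f x ∈ detKer P' ↔ x ∈ detKer P := by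
  obtain ⟨a, b, ha, hb, rfl⟩ := P.exists_sub x
  rw [map_sub, mem_detKer_iff P' _ _ (hf.pos_subset a ha) (hf.pos_subset b hb),
    mem_detKer_iff P _ _ ha hb, ← map_dt P hf, ← map_dt P hf]
  exact hf.injective.eq_iff

/-- a product of two elements of augmentation zero has trivial determinant -/
lemma mul_mem_detKer (hK : HasSplitting K P) (x y : K) (hx : P.aug x = 0) (hy : P.aug y = 0) :
    x * y ∈ detKer P := by
  obtain ⟨a, b, ha, hb, rfl⟩ := P.exists_sub x
  obtain ⟨c, e, hc, he, rfl⟩ := P.exists_sub y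
  have h1 : P.aug a = P.aug b := by rw [map_sub] at hx; omega
  have h2 : P.aug c = P.aug e := by rw [map_sub] at hy; omega
  have h3 : (a - b) * (c - e) = (a * c + b * e) - (a * e + b * c) := by ring
  rw [h3, mem_detKer_iff P _ _ (P.add_mem _ _ (P.mul_mem _ _ ha hc) (P.mul_mem _ _ hb he))
    (P.add_mem _ _ (P.mul_mem _ _ ha he) (P.mul_mem _ _ hb hc)),
    dt_add P _ _ (P.mul_mem _ _ ha hc) (P.mul_mem _ _ hb he),
    dt_add P _ _ (P.mul_mem _ _ ha he) (P.mul_mem _ _ hb hc),
    dt_mul P hK _ _ ha hc, dt_mul P hK _ _ hb he, dt_mul P hK _ _ ha he, dt_mul P hK _ _ hb hc,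
    h1, h2]
  ring

/-- the square of the augmentation ideal is contained in `detKer` -/
lemma sq_le_detKer (hK : HasSplitting K P) (x : K) (hx : x ∈ (RingHom.ker P.aug) ^ 2) :
    x ∈ detKer P := by
  rw [pow_two] at hx
  induction hx using Submodule.mul_induction_on' with
  | mem_mul_mem m hm n hn => exact mul_mem_detKer P hK m n hm hn
  | add a ha b hb ha' hb' => exact AddSubgroup.add_mem _ ha' hb'

end det

section gamma

variable {K : Type u} [CommRing K] [LambdaOps K] (P : PosStructure K)

/-- `γ^r` of a sum of line elements minus its rank lies in the `r`-th power of the augmentation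
ideal -/
lemma gamma_line_mem_pow {m : ℕ} (u : Fin m → K) (hu : ∀ i, P.IsLine (u i)) (r : ℕ) :
    gamma r (∑ i, u i - (m : K)) ∈ (RingHom.ker P.aug) ^ r := by
  rw [gamma_sum_line P u hu]
  apply Submodule.sum_mem
  intro t ht
  rw [← (Finset.mem_powersetCard.mp ht).2, ← Finset.prod_const]
  apply Ideal.prod_mem_prod
  intro i _
  rw [RingHom.mem_ker, map_sub, map_one, (hu i).2, sub_self]

lemma gamma_pos_aug (hK : HasSplitting K P) (e : K) (he : e ∈ P.pos) (r : ℕ) (hr : 1 ≤ r) :
    P.aug (gamma r (e - ((P.aug e).toNat : K))) = 0 := by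
  obtain ⟨L, hL, f, hf, u, hu, hus⟩ := exists_split_fin P hK e he _ rfl
  have h1 := gamma_line_mem_pow L.posStr u hu r
  have h2 := Ideal.pow_le_self (by omega : r ≠ 0) h1
  rw [RingHom.mem_ker, hus] at h2
  rw [← hf.aug_comp, map_gamma hf.isLambdaHom, map_sub, map_natCast]
  exact h2

lemma gamma_pos_mem_detKer (hK : HasSplitting K P) (e : K) (he : e ∈ P.pos) (r : ℕ)
    (hr : 2 ≤ r) : gamma r (e - ((P.aug e).toNat : K)) ∈ detKer P := by
  obtain ⟨L, hL, f, hf, u, hu, hus⟩ := exists_split_fin P hK e he _ rfl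
  have h1 := gamma_line_mem_pow L.posStr u hu r
  have h2 := sq_le_detKer L.posStr hL _ (Ideal.pow_le_pow_right hr h1)
  rw [hus] at h2
  rw [← map_mem_detKer_iff P hf, map_gamma hf.isLambdaHom, map_sub, map_natCast]
  exact h2

/-- `γ^r` of elements of augmentation zero: augmentation zero for `1 ≤ r`, trivial determinant for
`2 ≤ r` -/
def GoodG (x : K) : Prop :=
  (∀ r, 1 ≤ r → P.aug (gamma r x) = 0) ∧ ∀ r, 2 ≤ r → gamma r x ∈ detKer P

lemma GoodG.add (hK : HasSplitting K P) {x y : K} (hx : GoodG P x) (hy : GoodG P y) :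
    GoodG P (x + y) := by
  constructor
  · intro r hr
    rw [gamma_add, map_sum]
    apply Finset.sum_eq_zero
    intro i hi
    have := Finset.mem_range.mp hi
    rw [map_mul]
    rcases Nat.eq_zero_or_pos i with h | h
    · rw [hy.1 (r - i) (by omega), mul_zero]
    · rw [hx.1 i h, zero_mul]
  · intro r hr
    rw [gamma_add]
    apply AddSubgroup.sum_mem
    intro i hi
    have := Finset.mem_range.mp hi
    rcases Nat.eq_zero_or_pos i with h | h
    · subst h
      rw [gamma_zero, one_mul]
      exact hy.2 _ (by omega)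
    · rcases Nat.eq_or_lt_of_le (show i ≤ r by omega) with h' | h'
      · subst h'
        rw [Nat.sub_self, gamma_zero, mul_one]
        exact hx.2 _ hr
      · exact mul_mem_detKer P hK _ _ (hx.1 i h) (hy.1 _ (by omega))

lemma GoodG.neg (hK : HasSplitting K P) {x : K} (hx : GoodG P x) : GoodG P (-x) := by
  have key : ∀ r, 1 ≤ r → gamma r (-x) = -(gamma r x +
      ∑ i ∈ Ico 1 r, gamma i x * gamma (r - i) (-x)) := by
    intro r hr
    have h1 : ∑ i ∈ range (r + 1), gamma i x * gamma (r - i) (-x) = 0 := by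
      rw [← gamma_add, add_neg_cancel, ← coeff_gammaSeries, gammaSeries_zero,
        PowerSeries.coeff_one, if_neg (by omega)]
    rw [Finset.sum_range_succ, Finset.range_eq_Ico, Finset.sum_eq_sum_Ico_succ_bot (by omega),
      gamma_zero, one_mul, Nat.sub_zero, Nat.sub_self, gamma_zero, mul_one, zero_add] at h1
    linear_combination h1
  have h1 : ∀ r, 1 ≤ r → P.aug (gamma r (-x)) = 0 := by
    intro r hr
    rw [key r hr, map_neg, map_add, hx.1 r hr, zero_add, map_sum, neg_eq_zero]
    apply Finset.sum_eq_zero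
    intro i hi
    rw [map_mul, hx.1 i (Finset.mem_Ico.mp hi).1, zero_mul]
  refine ⟨h1, ?_⟩
  intro r hr
  rw [key r (by omega)]
  apply AddSubgroup.neg_mem
  apply AddSubgroup.add_mem _ (hx.2 r hr)
  apply AddSubgroup.sum_mem
  intro i hi
  have := Finset.mem_Ico.mp hi
  exact mul_mem_detKer P hK _ _ (hx.1 i this.1) (h1 _ (by omega))

lemma goodG (hK : HasSplitting K P) (x : K) (hx : P.aug x = 0) : GoodG P x := by
  obtain ⟨a, b, ha, hb, rfl⟩ := P.exists_sub x
  have hab : P.aug a = P.aug b := by rw [map_sub] at hx; omega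
  have h1 : a - b = (a - ((P.aug a).toNat : K)) + (-(b - ((P.aug b).toNat : K))) := by
    rw [hab]; ring
  rw [h1]
  have key : ∀ e ∈ P.pos, GoodG P (e - ((P.aug e).toNat : K)) := fun e he =>
    ⟨gamma_pos_aug P hK e he, gamma_pos_mem_detKer P hK e he⟩
  exact (key a ha).add P hK ((key b hb).neg P hK)

/-- the generators of the second step of the gamma filtration -/
lemma gens_two (hK : HasSplitting K P) (l : List (ℕ × K)) (hl : ∀ p ∈ l, P.aug p.2 = 0) :
    ((l.map fun p => gamma p.1 p.2).prod = 1 ∧ (l.map Prod.fst).sum = 0) ∨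
    (∃ (r : ℕ) (x : K), 1 ≤ r ∧ P.aug x = 0 ∧ (l.map fun p => gamma p.1 p.2).prod = gamma r x ∧
      (l.map Prod.fst).sum = r) ∨
    (l.map fun p => gamma p.1 p.2).prod ∈ (RingHom.ker P.aug) ^ 2 := by
  induction l with
  | nil => left; simp
  | cons p l ih =>
    have hp := hl p (List.mem_cons_self ..)
    have ih' := ih (fun q hq => hl q (List.mem_cons_of_mem _ hq))
    simp only [List.map_cons, List.sum_cons, List.prod_cons]
    rcases Nat.eq_zero_or_pos p.1 with h | h
    · rw [h, gamma_zero, one_mul, zero_add]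
      exact ih'
    · rcases ih' with ⟨h1, h2⟩ | ⟨r, x, hr, hx, h1, h2⟩ | h1
      · right; left
        exact ⟨p.1, p.2, h, hp, by rw [h1, mul_one], by rw [h2, add_zero]⟩
      · right; right
        rw [h1, pow_two]
        exact Ideal.mul_mem_mul ((goodG P hK _ hp).1 _ h) ((goodG P hK _ hx).1 _ hr)
      · right; right
        exact Ideal.mul_mem_left _ _ h1

/-- the second step of the gamma filtration has trivial determinant -/
theorem filtration_two_le (hK : HasSplitting K P) (x : K) (hx : x ∈ gammaFiltration P 2) :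
    x ∈ detKer P := by
  rw [filtration_of_ne_zero P (by omega)] at hx
  refine AddSubgroup.closure_induction (p := fun x _ => x ∈ detKer P) ?_ ?_ ?_ ?_ hx
  · rintro y ⟨l, hl, hs, rfl⟩
    rcases gens_two P hK l hl with ⟨h1, h2⟩ | ⟨r, x, hr, hx, h1, h2⟩ | h1
    · omega
    · rw [h1]
      exact (goodG P hK x hx).2 r (by omega)
    · exact sq_le_detKer P hK _ h1
  · exact AddSubgroup.zero_mem _
  · intro y z _ _ hy hz
    exact AddSubgroup.add_mem _ hy hz
  · intro y _ hy
    exact AddSubgroup.neg_mem _ hy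

/-- elements of the first step have augmentation zero -/
theorem aug_of_mem_one (hK : HasSplitting K P) (x : K) (hx : x ∈ gammaFiltration P 1) :
    P.aug x = 0 := by
  rw [filtration_of_ne_zero P (by omega)] at hx
  refine AddSubgroup.closure_induction (p := fun x _ => P.aug x = 0) ?_ ?_ ?_ ?_ hx
  · rintro y ⟨l, hl, hs, rfl⟩
    rcases gens_two P hK l hl with ⟨h1, h2⟩ | ⟨r, x, hr, hx, h1, h2⟩ | h1
    · omega
    · rw [h1]
      exact (goodG P hK x hx).1 r (by omega)
    · exact Ideal.pow_le_self (by omega : 2 ≠ 0) h1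
  · simp
  · intro y z _ _ hy hz
    rw [map_add, hy, hz, add_zero]
  · intro y _ hy
    rw [map_neg, hy, neg_zero]

end gamma

end Groth.Agent.Krr.H480.DetLine
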